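import Groth.Agent.Lib.ModExtZero.Basic
import Groth.Agent.Lib.ModFlat.KFlat
import Groth.Agent.Lib.OX.TotalMap

/-! # Extension by zero, flatness and K-flatness -/

set_option autoImplicit false
universe u

open CategoryTheory Opposite Limits MonoidalCategory GrothLib.SheafCoh HomologicalComplex

namespace GrothLib.ModExtZero

variable {C : Type u} [SmallCategory C] {J : GrothendieckTopology C} {O : Sheaf J CommRingCat.{u}} {U : C}

attribute [local instance] Abelian.hasFiniteBiproducts

theorem projIso_natural_left {P P' : ModSite.Mod (O.over U)} (a : P ⟶ P') (N : ModSite.Mod O) :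
    (ModSite.extZero O U).map (((ModSite.tensorBi (O.over U)).map a).app ((ModSite.restr O U).obj N)) ≫
        (projIso O U P' N).hom =
      (projIso O U P N).hom ≫ ((ModSite.tensorBi O).map ((ModSite.extZero O U).map a)).app N := by
  have h := projIso_natural O U a (𝟙 N)
  rw [CategoryTheory.Functor.map_id, CategoryTheory.Functor.map_id, CategoryTheory.Functor.map_id] at h
  exact ((congrArg (fun t => (ModSite.extZero O U).map t ≫ (projIso O U P' N).hom) (Category.comp_id _)).symm.trans
    h).trans (congrArg (_ ≫ ·) (Category.comp_id _))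

theorem projIso_natural_right (P : ModSite.Mod (O.over U)) {N N' : ModSite.Mod O} (b : N ⟶ N') :
    (ModSite.extZero O U).map (((ModSite.tensorBi (O.over U)).obj P).map ((ModSite.restr O U).map b)) ≫
        (projIso O U P N').hom =
      (projIso O U P N).hom ≫ ((ModSite.tensorBi O).obj ((ModSite.extZero O U).obj P)).map b := by
  have h := projIso_natural O U (𝟙 P) b
  rw [CategoryTheory.Functor.map_id, CategoryTheory.Functor.map_id, CategoryTheory.Functor.map_id,
    NatTrans.id_app, NatTrans.id_app] at h
  exact ((congrArg (fun t => (ModSite.extZero O U).map t ≫ (projIso O U P N').hom) (Category.id_comp _)).symm.trans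
    h).trans (congrArg (_ ≫ ·) (Category.id_comp _))

theorem isFlat_extZero (P : ModSite.Mod (O.over U)) (hP : ModSite.IsFlat P) :
    ModSite.IsFlat ((ModSite.extZero O U).obj P) := by
  rw [ModFlat.isFlat_iff_left] at hP ⊢
  refine ⟨fun {N N'} f _ => ?_⟩
  have := preservesMono_extZero O U
  have : Mono ((ModSite.restr O U).map f) := Functor.map_mono _ _
  have : Mono (((ModSite.tensorBi (O.over U)).obj P).map ((ModSite.restr O U).map f)) := Functor.map_mono _ _
  exact ((MorphismProperty.monomorphisms _).arrow_mk_iso_iff
    (Arrow.isoMk (projIso O U P N) (projIso O U P N') (projIso_natural_right P f).symm)).1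
      (Functor.map_mono (ModSite.extZero O U) (((ModSite.tensorBi (O.over U)).obj P).map ((ModSite.restr O U).map f)))

theorem isFlat_restr (M : ModSite.Mod O) (hM : ModSite.IsFlat M) :
    ModSite.IsFlat ((ModSite.restr O U).obj M) := by
  rw [ModFlat.isFlat_iff] at hM ⊢
  refine ⟨fun {A B} f _ => ?_⟩
  have := preservesMono_extZero O U
  have : Mono ((ModFlat.T M).map ((ModSite.extZero O U).map f)) := Functor.map_mono _ _
  have : Mono ((ModSite.extZero O U).map ((ModFlat.T ((ModSite.restr O U).obj M)).map f)) :=
    ((MorphismProperty.monomorphisms _).arrow_mk_iso_iff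
      (Arrow.isoMk (projIso O U A M) (projIso O U B M) (projIso_natural_left f M).symm)).2 this
  exact mono_of_mono_extZero_map O U _

theorem isIso_resTensor (M N : PMod' O) : IsIso (resTensor (U := U) M N) := by
  have : IsIso ((PresheafOfModules.toPresheaf _).map (resTensor (U := U) M N)) := by
    rw [NatTrans.isIso_iff_isIso_app]
    intro V
    rw [ConcreteCategory.isIso_iff_bijective]
    exact Function.bijective_id
  exact isIso_of_reflects_iso (resTensor (U := U) M N) (PresheafOfModules.toPresheaf _)

/-- restriction commutes with tensor products -/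
noncomputable def restrTensorIso (M N : ModSite.Mod O) :
    (ModSite.restr O U).obj (((ModSite.tensorBi O).obj M).obj N) ≅
      ((ModSite.tensorBi (O.over U)).obj ((ModSite.restr O U).obj M)).obj ((ModSite.restr O U).obj N) :=
  ((resShfIso O U).app ((forgetP O).obj M ⊗ (forgetP O).obj N)).symm ≪≫
    (haveI := isIso_resTensor (U := U) ((forgetP O).obj M) ((forgetP O).obj N)
     (shf (O.over U)).mapIso (asIso (resTensor ((forgetP O).obj M) ((forgetP O).obj N))).symm)

/-- the unit law for sheaves of modules -/
noncomputable def tensorUnitIso (M : ModSite.Mod (O.over U)) :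
    ((ModSite.tensorBi (O.over U)).obj (SheafOfModules.unit _)).obj M ≅ M :=
  haveI := isIso_counit_shfAdj (O.over U)
  (shf (O.over U)).mapIso (λ_ ((forgetP (O.over U)).obj M)) ≪≫ (asIso (shfAdj (O.over U)).counit).app M

instance preservesColimitsDiscrete_extZero (J' : Type) :
    PreservesColimitsOfShape (Discrete J') (ModSite.extZero O U) :=
  haveI : (ModSite.extZero O U).IsLeftAdjoint := (ModSite.extZeroAdj O U).isLeftAdjoint
  inferInstance

theorem isKFlat_restr {K : CochainComplex (ModSite.Mod O) ℤ} (hK : ModSite.IsKFlat K) :
    ModSite.IsKFlat (((ModSite.restr O U).mapHomologicalComplex (ComplexShape.up ℤ)).obj K) := by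
  rw [ModFlat.isKFlat_iff] at hK ⊢
  intro F hF
  have := additive_extZero O U
  have := preservesFiniteLimits_extZero O U
  have := preservesFiniteColimits_extZero O U
  have : (ModSite.extZero O U).PreservesHomology := Functor.preservesHomologyOfExact _
  let jF := ((ModSite.extZero O U).mapHomologicalComplex (ComplexShape.up ℤ)).obj F
  have hjF : jF.Acyclic := fun i => (hF i).map (ModSite.extZero O U)
  let B := ((((ModSite.tensorBi (O.over U)).mapBifunctorHomologicalComplex (ComplexShape.up ℤ) (ComplexShape.up ℤ)).obj
    F).obj (((ModSite.restr O U).mapHomologicalComplex (ComplexShape.up ℤ)).obj K))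
  let e : TotalMap.mapBicx (ModSite.extZero O U) B ≅
      (((ModSite.tensorBi O).mapBifunctorHomologicalComplex (ComplexShape.up ℤ) (ComplexShape.up ℤ)).obj jF).obj K :=
    HomologicalComplex.Hom.isoOfComponents
      (fun p => HomologicalComplex.Hom.isoOfComponents (fun q => projIso O U (F.X p) (K.X q))
        (fun q q' _ => (projIso_natural_right (F.X p) (K.d q q')).symm))
      (fun p p' _ => HomologicalComplex.hom_ext _ _ fun q => (projIso_natural_left (F.d p p') (K.X q)).symm)
  have h := DerCat.acyclic_of_iso
    ((HomologicalComplex₂.total.mapIso e (ComplexShape.up ℤ)).symm ≪≫ TotalMap.totalMapIso (ModSite.extZero O U) B)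
    (hK jF hjF)
  intro i
  rw [HomologicalComplex.exactAt_iff]
  exact exact_of_exact_map_extZero O U _ (h i)

end GrothLib.ModExtZero
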