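import Groth.Agent.Lib.ModExtZero.Presheaf
import Groth.Agent.Lib.ModFlat.Basic
import Mathlib.Algebra.Homology.ShortComplex.ExactFunctor
import Mathlib.LinearAlgebra.DirectSum.TensorProduct

/-! # Extension by zero: exactness and the projection formula -/

set_option autoImplicit false
universe u

open CategoryTheory Opposite Limits MonoidalCategory GrothLib.SheafCoh DirectSum
open scoped TensorProduct

namespace GrothLib.ModExtZero

variable {C : Type u} [SmallCategory C] {J : GrothendieckTopology C} (O : Sheaf J CommRingCat.{u}) (U : C)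

attribute [local instance] Abelian.hasFiniteBiproducts

theorem preservesMono_forgetP : (forgetP O).PreservesMonomorphisms :=
  have : (forgetP O).IsRightAdjoint := (shfAdj O).isRightAdjoint
  inferInstance

theorem mono_extP_map {G G' : PMod' (O.over U)} (f : G ⟶ G') [Mono f] : Mono ((extP O U).map f) := by
  apply Functor.mono_of_mono_map (PresheafOfModules.toPresheaf _)
  refine @NatTrans.mono_of_mono_app _ _ _ _ _ _ _ fun V => ?_
  rw [AddCommGrpCat.mono_iff_injective]
  have h : Function.Injective (DirectSum.lmap (hcomp f V)) := by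
    rw [DirectSum.lmap_injective]
    intro φ
    have : Mono ((PresheafOfModules.evaluation _ (op (Over.mk φ))).map f) := Functor.map_mono _ _
    exact (ModuleCat.mono_iff_injective _).1 this
  exact h

theorem preservesMono_extZero : (ModSite.extZero O U).PreservesMonomorphisms := by
  have h : (forgetP (O.over U) ⋙ extP O U ⋙ shf O).PreservesMonomorphisms := ⟨fun {G G'} f _ => by
    have := preservesMono_forgetP (O.over U)
    have := mono_extP_map O U ((forgetP (O.over U)).map f)
    have : (shf O).PreservesMonomorphisms :=
      inferInstanceAs (PresheafOfModules.sheafification.{u} (𝟙 (ModSite.ringSh O).obj)).PreservesMonomorphisms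
    exact inferInstanceAs (Mono ((shf O).map ((extP O U).map ((forgetP (O.over U)).map f))))⟩
  exact Functor.PreservesMonomorphisms.of_iso (extZeroIso O U)

theorem additive_extZero : (ModSite.extZero O U).Additive :=
  haveI : (ModSite.extZero O U).IsLeftAdjoint := (ModSite.extZeroAdj O U).isLeftAdjoint
  haveI : PreservesBinaryBiproducts (ModSite.extZero O U) :=
    preservesBinaryBiproducts_of_preservesBinaryCoproducts _
  Functor.additive_of_preservesBinaryBiproducts _

theorem preservesFiniteColimits_extZero : PreservesFiniteColimits (ModSite.extZero O U) :=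
  haveI : (ModSite.extZero O U).IsLeftAdjoint := (ModSite.extZeroAdj O U).isLeftAdjoint
  PreservesColimits.preservesFiniteColimits _

theorem preservesFiniteLimits_extZero : PreservesFiniteLimits (ModSite.extZero O U) := by
  have := additive_extZero O U
  have := preservesFiniteColimits_extZero O U
  have := preservesMono_extZero O U
  rw [Functor.preservesFiniteLimits_iff_forall_exact_map_and_mono]
  intro S hS
  have := hS.mono_f
  have := hS.epi_g
  exact ⟨hS.exact.map_of_epi_of_preservesCokernel (ModSite.extZero O U) inferInstance inferInstance,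
    inferInstanceAs (Mono ((ModSite.extZero O U).map S.f))⟩

open scoped Classical in
/-- the unit `G ⟶ (j_! G)|_U` is injective on sections -/
theorem eq_zero_of_extP_unit {G : ModSite.Mod (O.over U)} (P : Over U) (x : G.val.obj (op P))
    (h : ((shfAdj O).unit.app ((extP O U).obj ((forgetP (O.over U)).obj G))).app (op P.left)
      (incl ((forgetP (O.over U)).obj G) (op P.left) P.hom x) = 0) : x = 0 := by
  let G' := (forgetP (O.over U)).obj G
  let E := (extP O U).obj G'
  have hs : Presheaf.equalizerSieve (F := E.presheaf) (X := op P.left) (incl G' (op P.left) P.hom x) 0 ∈ J P.left := by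
    have := isLocallyInjective_unit O E
    exact Presheaf.equalizerSieve_mem J ((PresheafOfModules.toPresheaf _).map ((shfAdj O).unit.app E)) _ _
      (h.trans (map_zero _).symm)
  let S := (Sieve.overEquiv P).symm (Presheaf.equalizerSieve (F := E.presheaf) (X := op P.left) (incl G' (op P.left) P.hom x) 0)
  have hS : S ∈ (J.over U) P := J.overEquiv_symm_mem_over P _ hs
  have hsep : Presieve.IsSeparatedFor (G.val.presheaf ⋙ forget AddCommGrpCat.{u}) S.arrows :=
    (((isSheaf_iff_isSheaf_of_type _ _).1
      ((Presheaf.isSheaf_iff_isSheaf_comp (J.over U) G.val.presheaf (forget AddCommGrpCat.{u})).1 G.isSheaf)) S hS).isSeparatedFor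
  refine hsep.ext fun Q k hk => ?_
  have hk' : E.presheaf.map k.left.op (incl G' (op P.left) P.hom x) = E.presheaf.map k.left.op 0 :=
    (Sieve.overEquiv_symm_iff _ k).1 hk
  rw [map_zero] at hk'
  change sumMap G' k.left.op (incl G' (op P.left) P.hom x) = 0 at hk'
  rw [incl, DirectSum.lof_eq_of, sumMap_of] at hk'
  have hz := DirectSum.of_injective _ (hk'.trans (map_zero _).symm)
  change G.val.presheaf.map k.op x = G.val.presheaf.map k.op 0
  rw [map_zero]
  have hk2 : k.op = (Over.homMk k.left : Over.mk (k.left ≫ P.hom) ⟶ Over.mk P.hom).op ≫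
      (Over.homMk (𝟙 _) (by simp) : Q ⟶ Over.mk (k.left ≫ P.hom)).op :=
    Quiver.Hom.unop_inj (Over.OverMorphism.ext (Category.id_comp _).symm)
  rw [hk2, Functor.map_comp]
  exact (congrArg (G.val.presheaf.map _) hz).trans (map_zero (G.val.presheaf.map _).hom)

open scoped Classical in
theorem faithful_extZero : (ModSite.extZero O U).Faithful := by
  have : (forgetP (O.over U) ⋙ extP O U ⋙ shf O).Faithful := by
    refine ⟨fun {G G'} a b hab => ?_⟩
    apply SheafOfModules.hom_ext
    apply PresheafOfModules.hom_ext
    intro P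
    refine ModuleCat.hom_ext (LinearMap.ext fun x => ?_)
    rw [← sub_eq_zero]
    refine eq_zero_of_extP_unit O U P.unop _ ?_
    let ι := fun H : ModSite.Mod (O.over U) =>
      (shfAdj O).unit.app ((extP O U).obj ((forgetP (O.over U)).obj H))
    have hn : ∀ (c : G ⟶ G'), (ι G').app (op P.unop.left) (incl _ (op P.unop.left) P.unop.hom (c.val.app P x)) =
        ((forgetP O).map ((shf O).map ((extP O U).map ((forgetP (O.over U)).map c)))).app (op P.unop.left)
          ((ι G).app (op P.unop.left) (incl _ (op P.unop.left) P.unop.hom x)) := fun c => by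
      have h1 := (shfAdj O).unit.naturality ((extP O U).map ((forgetP (O.over U)).map c))
      have h2 := congrArg (fun t => t.app (op P.unop.left) (incl ((forgetP (O.over U)).obj G) (op P.unop.left) P.unop.hom x)) h1
      refine Eq.trans ?_ h2
      exact congrArg ((ι G').app (op P.unop.left)) (DirectSum.lmap_lof (hcomp ((forgetP (O.over U)).map c) (op P.unop.left)) _ x).symm
    erw [map_sub, map_sub, sub_eq_zero]
    exact (hn a).trans ((congrArg (fun t => ((forgetP O).map t).app (op P.unop.left)
      ((ι G).app (op P.unop.left) (incl _ (op P.unop.left) P.unop.hom x))) hab).trans (hn b).symm)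
  exact Functor.Faithful.of_iso (extZeroIso O U)

theorem exact_of_exact_map_extZero (S : ShortComplex (ModSite.Mod (O.over U)))
    [(ModSite.extZero O U).PreservesZeroMorphisms] (h : (S.map (ModSite.extZero O U)).Exact) : S.Exact := by
  have := additive_extZero O U
  have := preservesFiniteLimits_extZero O U
  have := preservesFiniteColimits_extZero O U
  have := faithful_extZero O U
  have : (ModSite.extZero O U).PreservesHomology := Functor.preservesHomologyOfExact _
  exact (S.exact_map_iff_of_faithful _).1 h

theorem mono_of_mono_extZero_map {G G' : ModSite.Mod (O.over U)} (f : G ⟶ G')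
    [Mono ((ModSite.extZero O U).map f)] : Mono f :=
  haveI := faithful_extZero O U
  (ModSite.extZero O U).mono_of_mono_map ‹_›

/-- sheafify, then extend by zero -/
noncomputable def shfExtZeroIso : shf (O.over U) ⋙ ModSite.extZero O U ≅ extP O U ⋙ shf O :=
  Adjunction.leftAdjointUniq
    (((shfAdj (O.over U)).comp (ModSite.extZeroAdj O U)).ofNatIsoRight (forgetRestrIso O U).symm)
    ((extPAdj O U).comp (shfAdj O))

/-! ### the projection formula -/

variable {O U}

/-- restriction and tensor product of presheaves commute -/
noncomputable def resTensor (M N : PMod' O) :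
    (resP O U).obj M ⊗ (resP O U).obj N ⟶ (resP O U).obj (M ⊗ N) where
  app P := ModuleCat.ofHom (Y := ((resP O U).obj (M ⊗ N)).obj P) LinearMap.id
  naturality {P Q} k := by
    refine ModuleCat.hom_ext (TensorProduct.ext' fun m n => ?_)
    rfl

theorem resTensor_natural {M M' N N' : PMod' O} (a : M ⟶ M') (b : N ⟶ N') :
    ((resP O U).map a ⊗ₘ (resP O U).map b) ≫ resTensor M' N' = resTensor M N ≫ (resP O U).map (a ⊗ₘ b) :=
  PresheafOfModules.hom_ext fun P => ModuleCat.hom_ext (TensorProduct.ext' fun m n => rfl)

/-- the comparison map of the projection formula -/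
noncomputable def projMap (G : PMod' (O.over U)) (N : PMod' O) :
    (extP O U).obj (G ⊗ (resP O U).obj N) ⟶ (extP O U).obj G ⊗ N :=
  ((extPAdj O U).homEquiv _ _).symm ((extPAdj O U).unit.app G ▷ (resP O U).obj N ≫ resTensor _ N)

theorem projMap_natural {G G' : PMod' (O.over U)} {N N' : PMod' O} (a : G ⟶ G') (b : N ⟶ N') :
    (extP O U).map (a ⊗ₘ (resP O U).map b) ≫ projMap G' N' = projMap G N ≫ ((extP O U).map a ⊗ₘ b) := by
  rw [projMap, projMap, ← Adjunction.homEquiv_naturality_left_symm, ← Adjunction.homEquiv_naturality_right_symm]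
  congr 1
  have h := (extPAdj O U).unit.naturality a
  rw [Category.assoc, ← resTensor_natural, ← tensorHom_id, ← tensorHom_id, tensorHom_comp_tensorHom_assoc,
    tensorHom_comp_tensorHom_assoc, Category.comp_id, Category.id_comp]
  congr 2

open scoped Classical in
theorem projMap_app (G : PMod' (O.over U)) (N : PMod' O) (V : Cᵒᵖ) (φ : V.unop ⟶ U) (g : comp G V φ) (n : N.obj V) :
    (projMap G N).app V (incl (G ⊗ (resP O U).obj N) V φ (g ⊗ₜ n)) =
      (incl G V φ g : ((extP O U).obj G).obj V) ⊗ₜ n :=
  (extDescLin_incl ((extPAdj O U).unit.app G ▷ (resP O U).obj N ≫ resTensor _ N) V φ (g ⊗ₜ n)).trans rfl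

open scoped Classical in
theorem isIso_projMap (G : PMod' (O.over U)) (N : PMod' O) : IsIso (projMap G N) := by
  have hb : ∀ V : Cᵒᵖ, Function.Bijective ((projMap G N).app V).hom := fun V => by
    let e := (TensorProduct.directSumLeft (O.obj.obj V) (O.obj.obj V) (fun φ => comp G V φ) (N.obj V)).symm
    let f : (⨁ φ, (comp G V φ ⊗[O.obj.obj V] N.obj V)) →ₗ[O.obj.obj V]
        ((⨁ φ, comp G V φ) ⊗[O.obj.obj V] N.obj V) := ((projMap G N).app V).hom
    have hf : f = e.toLinearMap := DirectSum.linearMap_ext _ fun φ => TensorProduct.ext' fun g n => by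
      refine (projMap_app G N V φ g n).trans ?_
      exact (TensorProduct.directSumLeft_symm_lof_tmul (O.obj.obj V) (O.obj.obj V)
        (M₁ := fun φ => comp G V φ) φ g n).symm
    exact (show Function.Bijective f from hf ▸ e.bijective)
  have : IsIso ((PresheafOfModules.toPresheaf _).map (projMap G N)) := by
    rw [NatTrans.isIso_iff_isIso_app]
    intro V
    rw [ConcreteCategory.isIso_iff_bijective]
    exact hb V
  exact isIso_of_reflects_iso (projMap G N) (PresheafOfModules.toPresheaf _)

variable (O U)

/-- the projection formula, natural in both variables -/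
noncomputable def projIso (P : ModSite.Mod (O.over U)) (N : ModSite.Mod O) :
    (ModSite.extZero O U).obj (((ModSite.tensorBi (O.over U)).obj P).obj ((ModSite.restr O U).obj N)) ≅
      ((ModSite.tensorBi O).obj ((ModSite.extZero O U).obj P)).obj N :=
  (shfExtZeroIso O U).app ((forgetP (O.over U)).obj P ⊗ (resP O U).obj ((forgetP O).obj N)) ≪≫
    (haveI := isIso_projMap ((forgetP (O.over U)).obj P) ((forgetP O).obj N)
     (shf O).mapIso (asIso (projMap ((forgetP (O.over U)).obj P) ((forgetP O).obj N)))) ≪≫
    (@asIso _ _ _ _ _ (isIso_shf_map_unit_whiskerRight O ((extP O U).obj ((forgetP (O.over U)).obj P))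
      ((forgetP O).obj N))) ≪≫
    ((ModSite.tensorBi O).mapIso ((extZeroIso O U).app P)).app N

theorem projIso_natural {P P' : ModSite.Mod (O.over U)} (a : P ⟶ P') {N N' : ModSite.Mod O} (b : N ⟶ N') :
    (ModSite.extZero O U).map (((ModSite.tensorBi (O.over U)).map a).app ((ModSite.restr O U).obj N) ≫
        ((ModSite.tensorBi (O.over U)).obj P').map ((ModSite.restr O U).map b)) ≫ (projIso O U P' N').hom =
      (projIso O U P N).hom ≫ ((ModSite.tensorBi O).map ((ModSite.extZero O U).map a)).app N ≫
        ((ModSite.tensorBi O).obj ((ModSite.extZero O U).obj P')).map b := by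
  let a' := (forgetP (O.over U)).map a
  let b' := (forgetP O).map b
  have h1 : ((ModSite.tensorBi (O.over U)).map a).app ((ModSite.restr O U).obj N) ≫
      ((ModSite.tensorBi (O.over U)).obj P').map ((ModSite.restr O U).map b) =
        (shf (O.over U)).map (a' ⊗ₘ (resP O U).map b') := by
    rw [MonoidalCategory.tensorHom_def, Functor.map_comp]
    rfl
  have h2 : ∀ {A A' : ModSite.Mod O} (c : A ⟶ A'), ((ModSite.tensorBi O).map c).app N ≫
      ((ModSite.tensorBi O).obj A').map b = (shf O).map ((forgetP O).map c ⊗ₘ b') := fun c => by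
    rw [MonoidalCategory.tensorHom_def, Functor.map_comp]
    rfl
  rw [h1, h2]
  simp only [projIso, Iso.trans_hom, Category.assoc]
  refine ((reassoc_of% ((shfExtZeroIso O U).hom.naturality (a' ⊗ₘ (resP O U).map b'))) _).trans ?_
  congr 1
  simp only [Functor.mapIso_hom, asIso_hom, Functor.comp_map, Iso.app_hom]
  change (shf O).map ((extP O U).map _) ≫ (shf O).map _ ≫ _ = (shf O).map _ ≫ _ ≫ _ ≫ _
  rw [← Functor.map_comp_assoc, projMap_natural, Functor.map_comp_assoc]
  congr 1
  change (shf O).map _ ≫ (shf O).map _ ≫ (shf O).map _ = (shf O).map _ ≫ (shf O).map _ ≫ _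
  simp only [← Functor.map_comp]
  congr 1
  change ((extP O U).map a' ⊗ₘ b') ≫ _ ▷ _ ≫ _ ▷ _ = _ ▷ _ ≫ _ ▷ _ ≫ (_ ⊗ₘ b')
  rw [← tensorHom_id, ← tensorHom_id, ← tensorHom_id, ← tensorHom_id]
  simp only [tensorHom_comp_tensorHom, Category.comp_id, Category.id_comp]
  congr 1
  have n1 := (shfAdj O).unit.naturality ((extP O U).map a')
  have n2 := congrArg (forgetP O).map ((extZeroIso O U).hom.naturality a)
  simp only [Functor.map_comp] at n2
  exact ((Category.assoc _ _ _).symm.trans (congrArg (· ≫ (forgetP O).map ((extZeroIso O U).hom.app P')) n1)).trans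
    ((Category.assoc _ _ _).trans ((congrArg _ n2).trans (Category.assoc _ _ _).symm))

/-- sheafified restriction is restriction of the sheafification -/
theorem isIso_shf_map_resP_unit (M : PMod' O) :
    IsIso ((shf (O.over U)).map ((resP O U).map ((shfAdj O).unit.app M))) := by
  have := isLocallyInjective_unit O M
  have := isLocallySurjective_unit O M
  have : Presheaf.IsLocallyInjective (J.over U)
      ((PresheafOfModules.toPresheaf _).map ((resP O U).map ((shfAdj O).unit.app M))) :=
    ⟨fun {P} x y h => (GrothendieckTopology.mem_over_iff _ _).2 (by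
      refine J.superset_covering ?_ (Presheaf.equalizerSieve_mem J
        ((PresheafOfModules.toPresheaf _).map ((shfAdj O).unit.app M)) (X := op P.unop.left) x y h)
      intro W g hg
      exact (Sieve.overEquiv_iff _ g).2 hg)⟩
  have : Presheaf.IsLocallySurjective (J.over U)
      ((PresheafOfModules.toPresheaf _).map ((resP O U).map ((shfAdj O).unit.app M))) :=
    ⟨fun {P} s => (GrothendieckTopology.mem_over_iff _ _).2 (by
      refine J.superset_covering ?_ (Presheaf.imageSieve_mem J
        ((PresheafOfModules.toPresheaf _).map ((shfAdj O).unit.app M)) (U := op P.left) s)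
      rintro W g ⟨t, ht⟩
      exact (Sieve.overEquiv_iff _ g).2 ⟨t, ht⟩)⟩
  exact isIso_shf_map (O.over U) _

/-- restriction commutes with sheafification -/
noncomputable def resShfIso : resP O U ⋙ shf (O.over U) ≅ shf O ⋙ ModSite.restr O U :=
  haveI : IsIso (Functor.whiskerRight (shfAdj O).unit (resP O U ⋙ shf (O.over U))) := by
    rw [NatTrans.isIso_iff_isIso_app]
    exact fun M => isIso_shf_map_resP_unit O U M
  haveI := isIso_counit_shfAdj (O.over U)
  (Functor.leftUnitor _).symm ≪≫
    asIso (Functor.whiskerRight (shfAdj O).unit (resP O U ⋙ shf (O.over U))) ≪≫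
    NatIso.ofComponents (fun M => (asIso (shfAdj (O.over U)).counit).app ((ModSite.restr O U).obj ((shf O).obj M)))
      (fun f => (shfAdj (O.over U)).counit.naturality ((ModSite.restr O U).map ((shf O).map f)))

end GrothLib.ModExtZero
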