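import Groth.Agent.Lib.ModFlat.Basic
import Mathlib.Algebra.DirectSum.Module

/-! # Extension by zero of presheaves of modules from a slice category -/

set_option autoImplicit false
universe u

open CategoryTheory Opposite Limits GrothLib.SheafCoh DirectSum

namespace GrothLib.ModExtZero

variable {C : Type u} [SmallCategory C] {J : GrothendieckTopology C} (O : Sheaf J CommRingCat.{u}) (U : C)

/-- restriction of presheaves of modules to the slice -/
noncomputable def resP : PMod' O ⥤ PMod' (O.over U) :=
  PresheafOfModules.pushforward (F := Over.forget U) (𝟙 ((O.over U).obj ⋙ forget₂ CommRingCat.{u} RingCat.{u}))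

variable {O U}

/-- the value at `φ : V ⟶ U`, as a module over `O(V)` -/
def comp (G : PMod' (O.over U)) (V : Cᵒᵖ) (φ : V.unop ⟶ U) : ModuleCat.{u} (O.obj.obj V) :=
  G.obj (op (Over.mk φ))

/-- transition map between the components -/
noncomputable def compMap (G : PMod' (O.over U)) {V W : Cᵒᵖ} (g : V ⟶ W) (φ : V.unop ⟶ U) :
    comp G V φ →+ comp G W (g.unop ≫ φ) :=
  (G.presheaf.map (Over.homMk g.unop : Over.mk (g.unop ≫ φ) ⟶ Over.mk φ).op).hom

theorem compMap_smul (G : PMod' (O.over U)) {V W : Cᵒᵖ} (g : V ⟶ W) (φ : V.unop ⟶ U)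
    (r : O.obj.obj V) (x : comp G V φ) :
    compMap G g φ (r • x) = (O.obj.map g).hom r • compMap G g φ x :=
  G.map_smul (Over.homMk g.unop : Over.mk (g.unop ≫ φ) ⟶ Over.mk φ).op r x

/-- elements of the components over the same map agree -/
theorem of_congr (G : PMod' (O.over U)) (V : Cᵒᵖ) {φ ψ : V.unop ⟶ U} (h : φ = ψ)
    (x : comp G V φ) [DecidableEq (V.unop ⟶ U)] :
    (DirectSum.of (fun χ => comp G V χ) φ x) =
      DirectSum.of (fun χ => comp G V χ) ψ
        ((G.presheaf.map (Over.homMk (𝟙 _) (by simp [h]) : Over.mk ψ ⟶ Over.mk φ).op).hom x) := by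
  subst h
  refine congrArg (DirectSum.of (fun χ => comp G V χ) φ) ?_
  have h1 : (Over.homMk (𝟙 _) (by simp) : Over.mk φ ⟶ Over.mk φ) = 𝟙 _ := Over.OverMorphism.ext rfl
  rw [h1, op_id, CategoryTheory.Functor.map_id]
  rfl

theorem presheaf_map_map (G : PMod' (O.over U)) {P Q R : (Over U)ᵒᵖ} (a : P ⟶ Q) (b : Q ⟶ R)
    (x : G.presheaf.obj P) : G.presheaf.map b (G.presheaf.map a x) = G.presheaf.map (a ≫ b) x := by
  rw [Functor.map_comp]; rfl

open scoped Classical in
/-- the transition map of the sums -/
noncomputable def sumMap (G : PMod' (O.over U)) {V W : Cᵒᵖ} (g : V ⟶ W) :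
    (⨁ φ, comp G V φ) →+ (⨁ φ, comp G W φ) :=
  DirectSum.toAddMonoid fun φ => (DirectSum.of (fun χ => comp G W χ) (g.unop ≫ φ)).comp (compMap G g φ)

open scoped Classical in
theorem sumMap_of (G : PMod' (O.over U)) {V W : Cᵒᵖ} (g : V ⟶ W) (φ : V.unop ⟶ U) (x : comp G V φ) :
    sumMap G g (DirectSum.of (fun χ => comp G V χ) φ x) =
      DirectSum.of (fun χ => comp G W χ) (g.unop ≫ φ) (compMap G g φ x) :=
  DirectSum.toAddMonoid_of _ _ _

open scoped Classical in
/-- the underlying presheaf of abelian groups -/
noncomputable def sumPre (G : PMod' (O.over U)) : Cᵒᵖ ⥤ AddCommGrpCat.{u} where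
  obj V := AddCommGrpCat.of (⨁ φ, comp G V φ)
  map g := AddCommGrpCat.ofHom (sumMap G g)
  map_id V := by
    ext : 1
    refine DirectSum.addHom_ext fun φ x => ?_
    refine (sumMap_of G (𝟙 V) φ x).trans ?_
    refine (of_congr G V (show (𝟙 V : V ⟶ V).unop ≫ φ = φ from Category.id_comp φ) _).trans ?_
    refine congrArg (DirectSum.of (fun χ => comp G V χ) φ) ?_
    refine (presheaf_map_map G _ _ x).trans ?_
    have h1 : ∀ (a : op (Over.mk φ) ⟶ op (Over.mk φ)), a.unop.left = 𝟙 _ → G.presheaf.map a x = x := fun a ha => by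
      have : a = 𝟙 _ := Quiver.Hom.unop_inj (Over.OverMorphism.ext ha)
      rw [this, CategoryTheory.Functor.map_id]; rfl
    exact h1 _ (Category.id_comp _)
  map_comp {V W Z} f g := by
    ext : 1
    refine DirectSum.addHom_ext fun φ x => ?_
    refine (sumMap_of G (f ≫ g) φ x).trans (Eq.symm ?_)
    refine ((congrArg (sumMap G g) (sumMap_of G f φ x)).trans (sumMap_of G g _ _)).trans ?_
    refine (of_congr G Z (show g.unop ≫ f.unop ≫ φ = (f ≫ g).unop ≫ φ by simp) _).trans ?_
    refine congrArg (DirectSum.of (fun χ => comp G Z χ) ((f ≫ g).unop ≫ φ)) ?_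
    refine ((congrArg _ (presheaf_map_map G _ _ x)).trans (presheaf_map_map G _ _ x)).trans ?_
    exact congrArg (fun a => G.presheaf.map a x)
      (Quiver.Hom.unop_inj (Over.OverMorphism.ext (Category.id_comp _)))

noncomputable instance moduleSumPre (G : PMod' (O.over U)) (V : Cᵒᵖ) :
    Module ((O.obj ⋙ forget₂ CommRingCat.{u} RingCat.{u}).obj V) ((sumPre G).obj V) :=
  inferInstanceAs (Module (O.obj.obj V) (⨁ φ, comp G V φ))

open scoped Classical in
theorem sumMap_smul (G : PMod' (O.over U)) {V W : Cᵒᵖ} (g : V ⟶ W) (r : O.obj.obj V) (m : ⨁ φ, comp G V φ) :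
    sumMap G g (r • m) = (O.obj.map g).hom r • sumMap G g m := by
  induction m using DirectSum.induction_on with
  | zero => simp
  | of φ x =>
    rw [← DirectSum.lof_eq_of (O.obj.obj V), ← LinearMap.map_smul, DirectSum.lof_eq_of, DirectSum.lof_eq_of,
      sumMap_of, sumMap_of, compMap_smul, ← DirectSum.lof_eq_of (O.obj.obj W), ← DirectSum.lof_eq_of (O.obj.obj W),
      LinearMap.map_smul]
  | add x y hx hy => simp only [smul_add, map_add, hx, hy]

/-- `⊕_{φ : V ⟶ U} G(φ)` -/
noncomputable def extP₀ (G : PMod' (O.over U)) : PMod' O :=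
  PresheafOfModules.ofPresheaf (sumPre G) fun {V W} g r m => sumMap_smul G g r m

/-- the components of a morphism -/
noncomputable def hcomp {G G' : PMod' (O.over U)} (h : G ⟶ G') (V : Cᵒᵖ) (φ : V.unop ⟶ U) :
    comp G V φ →ₗ[O.obj.obj V] comp G' V φ :=
  (h.app (op (Over.mk φ))).hom

open scoped Classical in
theorem lmap_sumMap {G G' : PMod' (O.over U)} (h : G ⟶ G') {V W : Cᵒᵖ} (g : V ⟶ W) (m : ⨁ φ, comp G V φ) :
    DirectSum.lmap (hcomp h W) (sumMap G g m) = sumMap G' g (DirectSum.lmap (hcomp h V) m) := by
  induction m using DirectSum.induction_on with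
  | zero => simp
  | of φ x =>
    rw [sumMap_of, DirectSum.lmap_of, DirectSum.lmap_of, sumMap_of]
    exact congrArg _ (PresheafOfModules.naturality_apply h _ x)
  | add x y hx hy => simp only [map_add, hx, hy]

open scoped Classical in
/-- functoriality in `G` -/
noncomputable def sumMapHom {G G' : PMod' (O.over U)} (h : G ⟶ G') : extP₀ G ⟶ extP₀ G' :=
  PresheafOfModules.homMk
    { app := fun V => AddCommGrpCat.ofHom (DirectSum.lmap (hcomp h V)).toAddMonoidHom
      naturality := fun V W g => AddCommGrpCat.hom_ext (AddMonoidHom.ext fun m => lmap_sumMap h g m) }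
    fun V r m => (DirectSum.lmap (hcomp h V)).map_smul r m

variable (O U)

open scoped Classical in
/-- extension by zero of presheaves of modules -/
noncomputable def extP : PMod' (O.over U) ⥤ PMod' O where
  obj := extP₀
  map := sumMapHom
  map_id G := PresheafOfModules.hom_ext fun V => ModuleCat.hom_ext (LinearMap.ext fun m => by
    change DirectSum.lmap (hcomp (𝟙 G) V) (m : ⨁ φ, comp G V φ) = m
    rw [show hcomp (𝟙 G) V = fun φ => LinearMap.id from rfl, DirectSum.lmap_id]; rfl)
  map_comp {G G' G''} h h' := PresheafOfModules.hom_ext fun V => ModuleCat.hom_ext (LinearMap.ext fun m => by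
    change DirectSum.lmap (hcomp (h ≫ h') V) (m : ⨁ φ, comp G V φ) =
      DirectSum.lmap (hcomp h' V) (DirectSum.lmap (hcomp h V) m)
    exact LinearMap.congr_fun (DirectSum.lmap_comp (hcomp h V) (hcomp h' V)) m)

variable {O U}

open scoped Classical in
/-- the inclusion of a component -/
noncomputable def incl (G : PMod' (O.over U)) (V : Cᵒᵖ) (φ : V.unop ⟶ U) :
    comp G V φ →ₗ[O.obj.obj V] ⨁ ψ, comp G V ψ :=
  DirectSum.lof (O.obj.obj V) _ (fun ψ => comp G V ψ) φ

open scoped Classical in
theorem incl_natural (G : PMod' (O.over U)) {P Q : (Over U)ᵒᵖ} (k : P ⟶ Q) (x : G.obj P) :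
    incl G (op Q.unop.left) Q.unop.hom (G.presheaf.map k x) =
      sumMap G k.unop.left.op (incl G (op P.unop.left) P.unop.hom x) := by
  rw [incl, incl, DirectSum.lof_eq_of, DirectSum.lof_eq_of, sumMap_of]
  symm
  refine (of_congr G (op Q.unop.left) (show k.unop.left.op.unop ≫ P.unop.hom = Q.unop.hom from Over.w k.unop) _).trans ?_
  refine congrArg _ ?_
  refine (presheaf_map_map G _ _ x).trans ?_
  exact congrArg (fun a => G.presheaf.map a x) (Quiver.Hom.unop_inj (Over.OverMorphism.ext (Category.id_comp _)))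

/-- the components of a map to a restriction -/
noncomputable def compDesc {G : PMod' (O.over U)} {H : PMod' O} (b : G ⟶ (resP O U).obj H) (V : Cᵒᵖ)
    (φ : V.unop ⟶ U) : comp G V φ →ₗ[O.obj.obj V] H.obj V :=
  (b.app (op (Over.mk φ))).hom

open scoped Classical in
/-- the universal property -/
noncomputable def extDescLin {G : PMod' (O.over U)} {H : PMod' O} (b : G ⟶ (resP O U).obj H) (V : Cᵒᵖ) :
    (⨁ φ, comp G V φ) →ₗ[O.obj.obj V] H.obj V :=
  DirectSum.toModule (O.obj.obj V) _ (H.obj V) (compDesc b V)

open scoped Classical in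
theorem extDescLin_incl {G : PMod' (O.over U)} {H : PMod' O} (b : G ⟶ (resP O U).obj H) (V : Cᵒᵖ)
    (φ : V.unop ⟶ U) (x : comp G V φ) : extDescLin b V (incl G V φ x) = compDesc b V φ x :=
  DirectSum.toModule_lof _ _ _

open scoped Classical in
theorem extDescLin_sumMap {G : PMod' (O.over U)} {H : PMod' O} (b : G ⟶ (resP O U).obj H) {V W : Cᵒᵖ} (g : V ⟶ W)
    (m : ⨁ φ, comp G V φ) : extDescLin b W (sumMap G g m) = H.presheaf.map g (extDescLin b V m) := by
  induction m using DirectSum.induction_on with
  | zero => rw [map_zero, map_zero, map_zero]; exact (map_zero (H.presheaf.map g).hom).symm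
  | of φ x =>
    rw [sumMap_of]
    refine (extDescLin_incl b W (g.unop ≫ φ) (compMap G g φ x)).trans ?_
    refine Eq.trans ?_ (congrArg (H.presheaf.map g) (extDescLin_incl b V φ x)).symm
    exact PresheafOfModules.naturality_apply b (Over.homMk g.unop : Over.mk (g.unop ≫ φ) ⟶ Over.mk φ).op x
  | add x y hx hy =>
    rw [map_add, map_add, hx, hy, map_add]
    exact ((H.presheaf.map g).hom.map_add _ _).symm

open scoped Classical in
/-- maps out of the sum, componentwise -/
noncomputable def toComps {G : PMod' (O.over U)} {H : PMod' O} (a : (extP O U).obj G ⟶ H) (P : (Over U)ᵒᵖ) :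
    comp G (op P.unop.left) P.unop.hom →ₗ[O.obj.obj (op P.unop.left)] H.obj (op P.unop.left) :=
  (a.app (op P.unop.left)).hom.comp (incl G (op P.unop.left) P.unop.hom)

open scoped Classical in
theorem toComps_natural {G : PMod' (O.over U)} {H : PMod' O} (a : (extP O U).obj G ⟶ H) {P Q : (Over U)ᵒᵖ}
    (k : P ⟶ Q) (x : G.obj P) :
    toComps a Q (G.presheaf.map k x) = H.presheaf.map k.unop.left.op (toComps a P x) := by
  refine (congrArg (a.app (op Q.unop.left)) (incl_natural G k x)).trans ?_
  exact PresheafOfModules.naturality_apply a k.unop.left.op (incl G (op P.unop.left) P.unop.hom x :)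

open scoped Classical in
/-- maps out of the extension by zero -/
noncomputable def extEquiv (G : PMod' (O.over U)) (H : PMod' O) :
    ((extP O U).obj G ⟶ H) ≃ (G ⟶ (resP O U).obj H) where
  toFun a := PresheafOfModules.homMk
    { app := fun P => AddCommGrpCat.ofHom (toComps a P).toAddMonoidHom
      naturality := fun P Q k => AddCommGrpCat.hom_ext (AddMonoidHom.ext fun x => toComps_natural a k x) }
    fun P r x => (toComps a P).map_smul r x
  invFun b := PresheafOfModules.homMk
    { app := fun V => AddCommGrpCat.ofHom (extDescLin b V).toAddMonoidHom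
      naturality := fun V W g => AddCommGrpCat.hom_ext (AddMonoidHom.ext fun m => extDescLin_sumMap b g m) }
    fun V r m => (extDescLin b V).map_smul r m
  left_inv a := PresheafOfModules.hom_ext fun V => ModuleCat.hom_ext (DirectSum.linearMap_ext _ fun φ =>
    LinearMap.ext fun x => (extDescLin_incl _ V φ x).trans rfl)
  right_inv b := PresheafOfModules.hom_ext fun P => ModuleCat.hom_ext (LinearMap.ext fun x =>
    extDescLin_incl b (op P.unop.left) P.unop.hom x)

variable (O U)

/-- extension by zero is left adjoint to restriction, for presheaves of modules -/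
noncomputable def extPAdj : extP O U ⊣ resP O U :=
  Adjunction.mkOfHomEquiv
    { homEquiv := extEquiv
      homEquiv_naturality_left_symm := fun {G G' H} h b => PresheafOfModules.hom_ext fun V =>
        ModuleCat.hom_ext (by
          classical
          refine DirectSum.linearMap_ext _ fun φ => LinearMap.ext fun x => ?_
          change extDescLin (h ≫ b) V (incl G V φ x) = extDescLin b V (DirectSum.lmap (hcomp h V) (incl G V φ x))
          rw [extDescLin_incl]
          refine Eq.trans ?_ ((congrArg (extDescLin b V) (DirectSum.lmap_lof (hcomp h V) φ x)).trans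
            (extDescLin_incl b V φ (hcomp h V φ x))).symm
          rfl)
      homEquiv_naturality_right := fun {G H H'} a c => PresheafOfModules.hom_ext fun P =>
        ModuleCat.hom_ext (LinearMap.ext fun x => rfl) }

/-- forgetting, restriction and the restriction of presheaves agree -/
noncomputable def forgetRestrIso : forgetP O ⋙ resP O U ≅ ModSite.restr O U ⋙ forgetP (O.over U) :=
  Iso.refl _

/-- the adjunction computing `j_!` -/
noncomputable def extShfAdj : forgetP (O.over U) ⋙ extP O U ⋙ shf O ⊣ ModSite.restr O U :=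
  ((extPAdj O U).comp (shfAdj O)).restrictFullyFaithful
    (iC := forgetP (O.over U)) (iD := 𝟭 _)
    (SheafOfModules.fullyFaithfulForget _) (Functor.FullyFaithful.id _)
    (Functor.rightUnitor _).symm ((Functor.leftUnitor _) ≪≫ forgetRestrIso O U)

/-- `j_!` is the sheafification of the extension by zero of presheaves -/
noncomputable def extZeroIso : forgetP (O.over U) ⋙ extP O U ⋙ shf O ≅ ModSite.extZero O U :=
  Adjunction.leftAdjointUniq (extShfAdj O U) (ModSite.extZeroAdj O U)

end GrothLib.ModExtZero
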